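import Groth.Agent.Lib.ZarCoh.AffineBC
import Mathlib.AlgebraicGeometry.Modules.Sheaf

/-!
# Direct images along a finite split cover
-/

set_option autoImplicit false
set_option linter.style.haveILetI false

universe u

open CategoryTheory CategoryTheory.Limits AlgebraicGeometry TopologicalSpace Opposite

namespace Groth.Agent.H73.Translates.Decomp

variable {X Y : Scheme.{u}} {κ : Type} [Finite κ] (s : κ → (Y ⟶ X)) [∀ a, IsOpenImmersion (s a)]

/-- The summands. -/
noncomputable def part (M : X.Modules) (a : κ) : X.Modules :=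
  (Scheme.Modules.pushforward (s a)).obj (M.restrict (s a))

/-- A module on a finite disjoint union is the sum of its restrictions. -/
theorem isIso_lift [HasFiniteBiproducts X.Modules] (M : X.Modules)
    (hdisj : Pairwise fun a b => Disjoint (Set.range (s a)) (Set.range (s b)))
    (hcov : ∀ x : X, ∃ a, x ∈ Set.range (s a)) :
    IsIso (biproduct.lift (f := part s M) fun a =>
      (Scheme.Modules.restrictAdjunction (s a)).unit.app M) := by
  classical
  haveI := Fintype.ofFinite κ
  rw [Scheme.Modules.Hom.isIso_iff_isIso_app]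
  intro W
  set i := biproduct.lift (f := part s M) fun a =>
      (Scheme.Modules.restrictAdjunction (s a)).unit.app M with hidef
  let F : TopCat.Sheaf Ab X := ⟨M.presheaf, M.isSheaf⟩
  let V : κ → X.Opens := fun a => (s a) ''ᵁ (s a) ⁻¹ᵁ W
  have hle : W ≤ iSup V := fun x hx => by
    obtain ⟨a, y, rfl⟩ := hcov x
    exact Opens.mem_iSup.mpr ⟨a, ⟨y, hx, rfl⟩⟩
  have hcomp : ∀ (a : κ) (z : Γ(M, W)),
      (biproduct.π (part s M) a).app W (i.app W z) =
        M.presheaf.map (homOfLE ((s a).image_preimage_le W)).op z := by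
    intro a z
    have hk : i ≫ biproduct.π (part s M) a =
        (Scheme.Modules.restrictAdjunction (s a)).unit.app M := biproduct.lift_π _ _
    change (i ≫ biproduct.π (part s M) a).app W z = _
    rw [hk]
    rfl
  have hext : ∀ y y' : Γ(⨁ part s M, W), (∀ a, (biproduct.π (part s M) a).app W y =
      (biproduct.π (part s M) a).app W y') → y = y' := by
    intro y y' h
    have key : ∀ z : Γ(⨁ part s M, W), z =
        ∑ a, (biproduct.ι (part s M) a).app W ((biproduct.π (part s M) a).app W z) := by
      intro z
      let φ : (⨁ part s M ⟶ ⨁ part s M) →+ Γ(⨁ part s M, W) :=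
        AddMonoidHom.mk' (fun f => f.app W z) fun f g => rfl
      calc z = φ (𝟙 _) := rfl
        _ = φ (∑ a, biproduct.π (part s M) a ≫ biproduct.ι (part s M) a) := by rw [biproduct.total]
        _ = _ := by rw [map_sum]; rfl
    rw [key y, key y']
    simp only [h]
  haveI : IsIso ((forget Ab).map (i.app W)) := by
    rw [isIso_iff_bijective]
    refine ⟨fun z z' h => ?_, fun y => ?_⟩
    · refine TopCat.Sheaf.eq_of_locally_eq' F V W
        (fun a => homOfLE ((s a).image_preimage_le W)) hle z z' fun a => ?_
      exact (hcomp a z).symm.trans ((congrArg _ h).trans (hcomp a z'))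
    · let sf : ∀ a, Γ(M, V a) := fun a => (biproduct.π (part s M) a).app W y
      have hc : TopCat.Presheaf.IsCompatible M.presheaf V sf := by
        intro a b
        by_cases hab : a = b
        · subst hab
          rfl
        · refine TopCat.Sheaf.eq_of_locally_eq' F (fun e : Empty => e.elim) _ (fun e => e.elim)
            ?_ _ _ (fun e => e.elim)
          rintro x ⟨⟨p, -, hp⟩, ⟨q, -, hq⟩⟩
          exact absurd (hq.trans hp.symm) fun _ =>
            Set.disjoint_left.mp (hdisj hab) ⟨p, hp⟩ ⟨q, hq⟩
      obtain ⟨z, hz, -⟩ := TopCat.Sheaf.existsUnique_gluing' F V W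
        (fun a => homOfLE ((s a).image_preimage_le W)) hle sf hc
      exact ⟨z, hext _ _ fun a => (hcomp a z).trans (hz a)⟩
  exact isIso_of_reflects_iso _ (forget Ab)

/-- Direct image along a morphism split by a finite disjoint cover by sections. -/
theorem nonempty_iso [HasFiniteBiproducts X.Modules] [HasFiniteBiproducts Y.Modules]
    (f : X ⟶ Y) (M : X.Modules) (hsec : ∀ a, s a ≫ f = 𝟙 Y)
    (hdisj : Pairwise fun a b => Disjoint (Set.range (s a)) (Set.range (s b)))
    (hcov : ∀ x : X, ∃ a, x ∈ Set.range (s a)) :
    Nonempty ((Scheme.Modules.pushforward f).obj M ≅ ⨁ fun a => M.restrict (s a)) := by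
  refine ⟨(Scheme.Modules.pushforward f).mapIso (@asIso _ _ _ _ _ (isIso_lift s M hdisj hcov)) ≪≫
    (Scheme.Modules.pushforward f).mapBiproduct (part s M) ≪≫ biproduct.mapIso fun a =>
      (Scheme.Modules.pushforwardComp (s a) f).app (M.restrict (s a)) ≪≫
      (Scheme.Modules.pushforwardCongr (hsec a)).app (M.restrict (s a)) ≪≫
      (Scheme.Modules.pushforwardId Y).app (M.restrict (s a))⟩

end Groth.Agent.H73.Translates.Decomp
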