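import Groth.Agent.Lib.GrpQ.MonoClosed
import Groth.Agent.Lib.GrpSch.SmoothReduced
import Mathlib.AlgebraicGeometry.Morphisms.QuasiFinite
import Mathlib.AlgebraicGeometry.Artinian
import Mathlib.AlgebraicGeometry.AlgClosed.Basic

/-!
# Points of a finite reduced scheme over an algebraically closed field
-/

set_option autoImplicit false

universe u

open CategoryTheory Limits MonoidalCategory CartesianMonoidalCategory AlgebraicGeometry

namespace Groth.Agent.H73.Translates.Points

variable {k : Type u} [Field k] [IsAlgClosed k] {N : Over (Spec (CommRingCat.of k))} [IsFinite N.hom]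

local notation "pt" => 𝟙_ (Over (Spec (CommRingCat.of k)))

omit [IsAlgClosed k] in
theorem discrete : DiscreteTopology N.left ∧ _root_.Finite N.left := by
  haveI : IsLocallyArtinian N.left := IsLocallyArtinian.of_locallyQuasiFinite N.hom
  haveI : CompactSpace N.left := QuasiCompact.compactSpace_of_compactSpace N.hom
  haveI : DiscreteTopology N.left := inferInstance
  exact ⟨inferInstance, finite_of_compact_of_discrete⟩

theorem ptOf_injective : Function.Injective
    (Lib.GrpQ.MonoClosed.ptOf : (pt ⟶ N) → N.left) := fun n n' h => by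
  ext1
  exact ext_of_apply_closedPoint_eq N.hom (Over.w n) (Over.w n') h

theorem finite_points : _root_.Finite (pt ⟶ N) :=
  haveI := (discrete (N := N)).2
  _root_.Finite.of_injective _ ptOf_injective

omit [IsAlgClosed k] in
theorem range_left (n : pt ⟶ N) : Set.range n.left = {Lib.GrpQ.MonoClosed.ptOf n} := by
  haveI : Subsingleton (pt).left := inferInstanceAs (Subsingleton (Spec (CommRingCat.of k)))
  refine Set.eq_singleton_iff_unique_mem.mpr ⟨⟨_, rfl⟩, ?_⟩
  rintro _ ⟨x, rfl⟩
  exact congrArg n.left (Subsingleton.elim _ _)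

theorem exists_point (x : N.left) : ∃ n : pt ⟶ N, Lib.GrpQ.MonoClosed.ptOf n = x := by
  haveI := (discrete (N := N)).1
  obtain ⟨n, hn⟩ := Lib.GrpQ.MonoClosed.exists_ptOf (X := N)
    (isOpen_discrete ({x} : Set N.left)).isLocallyClosed ⟨x, rfl⟩
  exact ⟨n, hn⟩

theorem isOpenImmersion_left [IsReduced N.left] (n : pt ⟶ N) : IsOpenImmersion n.left := by
  haveI := (discrete (N := N)).1
  let U : N.left.Opens := ⟨Set.range n.left, isOpen_discrete _⟩
  let m : (pt).left ⟶ (U : Scheme.{u}) := IsOpenImmersion.lift U.ι n.left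
    (by rw [Scheme.Opens.range_ι]; exact le_rfl)
  have hm : m ≫ U.ι = n.left := IsOpenImmersion.lift_fac _ _ _
  haveI : IsClosedImmersion n.left :=
    isClosedImmersion_of_comp_eq_id N.hom n.left (Over.w n)
  haveI : IsClosedImmersion m := by
    haveI : IsClosedImmersion (m ≫ U.ι) := by rw [hm]; infer_instance
    exact IsClosedImmersion.of_comp m U.ι
  haveI : IsReduced (U : Scheme.{u}) := isReduced_of_isOpenImmersion U.ι
  haveI : Surjective m := ⟨fun y => by
    obtain ⟨z, hz⟩ := y.2
    refine ⟨z, U.ι.isOpenEmbedding.injective ?_⟩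
    rw [← Scheme.Hom.comp_apply, hm]
    exact hz⟩
  haveI := isIso_of_isClosedImmersion_of_surjective m
  rw [← hm]
  infer_instance

end Groth.Agent.H73.Translates.Points
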