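import Groth.Agent.H73.Translates.Decomp
import Groth.Agent.H73.Translates.Points
import Groth.Agent.H4.KernelSquare
import Groth.Agent.Lib.GrpQ.Kernel
import Groth.Agent.Lib.Modules.AffineSections
import Groth.Agent.S0353

/-!
# Pullback of a direct image along an isogeny
-/

set_option autoImplicit false
set_option linter.style.haveILetI false

universe u

open CategoryTheory Limits MonoidalCategory CartesianMonoidalCategory MonObj AlgebraicGeometry

namespace Groth.Agent.H73.Translates.Main

variable {k : Type u} [Field k] {A N : Over (Spec (CommRingCat.of k))}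

local notation "pt" => 𝟙_ (Over (Spec (CommRingCat.of k)))

/-- The copy of `A` over a point of `N`. -/
noncomputable def slice (n : pt ⟶ N) : A ⟶ A ⊗ N := lift (𝟙 A) (toUnit A ≫ n)

theorem isPullback_slice (n : pt ⟶ N) :
    IsPullback (slice (A := A) n) (toUnit A) (snd A N) n := by
  have hw : slice (A := A) n ≫ snd A N = toUnit A ≫ n := lift_snd _ _
  refine IsPullback.of_isLimit' ⟨hw⟩ (PullbackCone.IsLimit.mk hw
    (fun c => c.fst ≫ fst A N) (fun c => ?_) (fun c => toUnit_unique _ _) (fun c m h1 _ => ?_))
  · refine CartesianMonoidalCategory.hom_ext _ _ (by simp [slice]) ?_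
    rw [slice, Category.assoc, Category.assoc, lift_snd, c.condition, ← Category.assoc (fst A N),
      ← Category.assoc c.fst]
    congr 1
    exact toUnit_unique _ _
  · rw [← h1]
    simp [slice]

theorem range_slice (n : pt ⟶ N) :
    Set.range (slice (A := A) n).left = (snd A N).left ⁻¹' Set.range n.left := by
  have h : IsPullback (slice (A := A) n).left (toUnit A).left (snd A N).left n.left :=
    (isPullback_slice n).map (Over.forget _)
  rw [← h.isoPullback_hom_fst, ← Scheme.Pullback.range_fst]
  have hs := h.isoPullback.hom.surjective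
  exact hs.range_comp _

variable [IsAlgClosed k] [CharZero k] {B : Over (Spec (CommRingCat.of k))} [GrpObj A] [GrpObj B]
  [IsSeparated B.hom] (π : A ⟶ B) [IsMonHom π] [IsFinite π.left]

theorem main (E : A.left.Modules) (hE : FlatMod.IsFinLocFree E) :
    Nonempty ((Scheme.Modules.pullback π.left).obj ((Scheme.Modules.pushforward π.left).obj E) ≅
      ∐ fun a : {a : pt ⟶ A // a ≫ π = 1} =>
        (Scheme.Modules.pullback (𝟙 A * (toUnit A ≫ a.1)).left).obj E) := by
  classical
  obtain ⟨N, instN, i, hi, -, hN, -⟩ := Lib.GrpQ.exists_kernel π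
  haveI : IsFinite N.hom := H4.KernelSquare.hom_of π i hN (P := @IsFinite) inferInstance
  haveI : Smooth N.hom := Groth.Agent.S0353.result k N
  haveI : IsReduced N.left := Lib.GrpSch.isReduced_of_smooth_field N.hom
  haveI : Mono i := Lib.GrpQ.kernel_mono hN
  haveI : _root_.Finite (pt ⟶ N) := Points.finite_points
  obtain ⟨c, ⟨en⟩⟩ := Finite.exists_equiv_fin (pt ⟶ N)
  haveI : E.IsQuasicoherent := Lib.Modules.AffineSections.isQCoh_of_isFinLocFree hE
  let m : (A ⊗ N) ⟶ A := fst A N * (snd A N ≫ i)
  have h : IsPullback m.left (fst A N).left π.left π.left :=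
    (H4.KernelSquare.isPullback_left π i hN).flip
  haveI := ZarCoh.AffineBC.isIso_bc h E
  let M : (A ⊗ N).left.Modules := (Scheme.Modules.pullback m.left).obj E
  let s : Fin c → (A.left ⟶ (A ⊗ N).left) := fun j => (slice (A := A) (en.symm j)).left
  haveI : ∀ n : pt ⟶ N, IsOpenImmersion (slice (A := A) n).left := fun n =>
    MorphismProperty.of_isPullback (P := @IsOpenImmersion)
      ((isPullback_slice (A := A) n).map (Over.forget _)).flip (Points.isOpenImmersion_left n)
  haveI : ∀ j, IsOpenImmersion (s j) := fun j => inferInstance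
  have hrange : ∀ j, Set.range (s j) =
      (snd A N).left ⁻¹' {Lib.GrpQ.MonoClosed.ptOf (en.symm j)} := fun j => by
    rw [← Points.range_left]
    exact range_slice _
  haveI := HasFiniteBiproducts.of_hasFiniteCoproducts (C := A.left.Modules)
  haveI := HasFiniteBiproducts.of_hasFiniteCoproducts (C := (A ⊗ N).left.Modules)
  obtain ⟨e₁⟩ := Decomp.nonempty_iso s (fst A N).left M
    (fun j => by
      simp only [s, ← Over.comp_left, slice, lift_fst]
      rfl)
    (fun a b hab => by
      change Disjoint (Set.range (s a)) (Set.range (s b))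
      rw [hrange, hrange]
      refine Disjoint.preimage _ (Set.disjoint_singleton.mpr fun he => hab ?_)
      exact en.symm.injective (Points.ptOf_injective he))
    (fun x => by
      obtain ⟨n, hn⟩ := Points.exists_point ((snd A N).left x)
      refine ⟨en n, ?_⟩
      rw [hrange, Equiv.symm_apply_apply]
      exact hn.symm)
  let ea : Fin c ≃ {a : pt ⟶ A // a ≫ π = 1} :=
    { toFun := fun j => ⟨en.symm j ≫ i, (Lib.GrpQ.mem_kernel hN _).mp ⟨_, rfl⟩⟩
      invFun := fun a => en ((Lib.GrpQ.mem_kernel hN a.1).mpr a.2).choose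
      left_inv := fun j => by
        refine en.symm.injective ?_
        rw [Equiv.symm_apply_apply]
        exact (cancel_mono i).mp ((Lib.GrpQ.mem_kernel hN (en.symm j ≫ i)).mpr
          ((Lib.GrpQ.mem_kernel hN _).mp ⟨en.symm j, rfl⟩)).choose_spec
      right_inv := fun a => Subtype.ext (by
        simp only [Equiv.symm_apply_apply]
        exact ((Lib.GrpQ.mem_kernel hN a.1).mpr a.2).choose_spec) }
  have ht : ∀ j, s j ≫ m.left = (𝟙 A * (toUnit A ≫ (ea j).1)).left := fun j => by
    rw [← Over.comp_left]
    congr 1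
    simp only [m, slice, MonObj.comp_mul, lift_fst, lift_snd_assoc, Category.assoc]
    rfl
  refine ⟨@asIso _ _ _ _ (ZarCoh.AffineBC.bc h E) inferInstance ≪≫ e₁ ≪≫
    biproduct.isoCoproduct _ ≪≫ Limits.Sigma.whiskerEquiv ea fun j => ?_⟩
  exact ((Scheme.Modules.restrictFunctorIsoPullback (s j)).app M ≪≫
    (Scheme.Modules.pullbackComp (s j) m.left).app E ≪≫
    (Scheme.Modules.pullbackCongr (ht j)).app E).symm

end Groth.Agent.H73.Translates.Main
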